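import Mathlib

/-!
# Square roots in `SL₂(F)` (generic lemmas for the team project FW, S3211)

For `x₀ ∈ SL₂(F)` with `x₀² = -1` over a field with `2 ≠ 0`, every `u ∈ SL₂(F)` with `u² = x₀` has
`τ • u = x₀ + 1` with `τ = tr u`, `τ² = 2`; hence there are at most two such `u`.
-/

set_option autoImplicit false

namespace Cfsg.Agent.Lib.Helper23.FW

universe u

variable {F : Type u} [Field F]

/-- Cayley–Hamilton for a `2 × 2` matrix of determinant one. -/
theorem fw_cayley (M : Matrix (Fin 2) (Fin 2) F) (hM : M.det = 1) :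
    M * M = M.trace • M - 1 := by
  rw [Matrix.det_fin_two] at hM
  ext i j
  fin_cases i <;> fin_cases j <;>
    simp [Matrix.mul_apply, Fin.sum_univ_two, Matrix.trace_fin_two]
  · linear_combination (-1 : F) * hM
  · ring
  · ring
  · linear_combination (-1 : F) * hM

/-- An element of `SL₂(F)` with square `-1` has trace zero. -/
theorem fw_trace_zero (x : Matrix (Fin 2) (Fin 2) F) (hx : x.det = 1) (hx2 : x * x = -1) :
    x.trace = 0 := by
  have h1 := fw_cayley x hx
  rw [hx2] at h1
  have h2 : x.trace • x = 0 := by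
    have h3 : x.trace • x = (x.trace • x - 1) + 1 := by abel
    rw [h3, ← h1]; simp
  by_contra hne
  have h4 : x = 0 := by
    have h5 := congrArg (fun N => (x.trace)⁻¹ • N) h2
    simpa [smul_smul, inv_mul_cancel₀ hne] using h5
  rw [h4] at hx
  simp at hx

/-- A square root `u` of `x` (with `x² = -1`) satisfies `tr u • u = x + 1` and `(tr u)² = 2`. -/
theorem fw_sqrt_shape (x u : Matrix (Fin 2) (Fin 2) F) (hx : x.det = 1) (hx2 : x * x = -1)
    (hu : u.det = 1) (hu2 : u * u = x) :
    u.trace • u = x + 1 ∧ u.trace ^ 2 = 2 := by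
  have h1 := fw_cayley u hu
  rw [hu2] at h1
  have h2 : u.trace • u = x + 1 := by rw [h1]; abel
  refine ⟨h2, ?_⟩
  have h3 := fw_trace_zero x hx hx2
  have h4 := congrArg Matrix.trace h2
  rw [Matrix.trace_smul, Matrix.trace_add, h3, Matrix.trace_one] at h4
  simp only [smul_eq_mul, Fintype.card_fin, zero_add] at h4
  rw [pow_two]
  exact_mod_cast h4

/-- Two square roots with the same trace are equal. -/
theorem fw_sqrt_eq_of_trace (h2 : (2 : F) ≠ 0) (x u v : Matrix (Fin 2) (Fin 2) F)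
    (hx : x.det = 1) (hx2 : x * x = -1) (hu : u.det = 1) (hu2 : u * u = x)
    (hv : v.det = 1) (hv2 : v * v = x) (ht : u.trace = v.trace) : u = v := by
  obtain ⟨a1, a2⟩ := fw_sqrt_shape x u hx hx2 hu hu2
  obtain ⟨b1, _⟩ := fw_sqrt_shape x v hx hx2 hv hv2
  have hne : u.trace ≠ 0 := by
    intro h0
    rw [h0] at a2
    apply h2
    rw [← a2]; simp
  have h3 : u.trace • u = u.trace • v := by rw [a1, ht, b1]
  have h4 := congrArg (fun N => (u.trace)⁻¹ • N) h3
  simpa [smul_smul, inv_mul_cancel₀ hne] using h4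

/-- Among three square roots two are equal. -/
theorem fw_sqrt_three (h2 : (2 : F) ≠ 0) (x u v w : Matrix (Fin 2) (Fin 2) F)
    (hx : x.det = 1) (hx2 : x * x = -1) (hu : u.det = 1) (hu2 : u * u = x)
    (hv : v.det = 1) (hv2 : v * v = x) (hw : w.det = 1) (hw2 : w * w = x) :
    u = v ∨ u = w ∨ v = w := by
  obtain ⟨_, a2⟩ := fw_sqrt_shape x u hx hx2 hu hu2
  obtain ⟨_, b2⟩ := fw_sqrt_shape x v hx hx2 hv hv2
  obtain ⟨_, c2⟩ := fw_sqrt_shape x w hx hx2 hw hw2
  have huv : u.trace = v.trace ∨ u.trace = -v.trace := by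
    have h : u.trace ^ 2 = v.trace ^ 2 := by rw [a2, b2]
    exact sq_eq_sq_iff_eq_or_eq_neg.mp h
  have huw : u.trace = w.trace ∨ u.trace = -w.trace := by
    have h : u.trace ^ 2 = w.trace ^ 2 := by rw [a2, c2]
    exact sq_eq_sq_iff_eq_or_eq_neg.mp h
  rcases huv with h | h
  · exact Or.inl (fw_sqrt_eq_of_trace h2 x u v hx hx2 hu hu2 hv hv2 h)
  · rcases huw with h' | h'
    · exact Or.inr (Or.inl (fw_sqrt_eq_of_trace h2 x u w hx hx2 hu hu2 hw hw2 h'))
    · refine Or.inr (Or.inr (fw_sqrt_eq_of_trace h2 x v w hx hx2 hv hv2 hw hw2 ?_))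
      have : -v.trace = -w.trace := by rw [← h, ← h']
      exact neg_injective this

/-- The only involution of `SL₂(F)` (`2 ≠ 0`) is `-1`: a matrix of determinant one with square one
is `1` or `-1`. -/
theorem fw_involution (h2 : (2 : F) ≠ 0) (x : Matrix (Fin 2) (Fin 2) F) (hx : x.det = 1)
    (hx2 : x * x = 1) : x = 1 ∨ x = -1 := by
  have h1 := fw_cayley x hx
  rw [hx2] at h1
  -- tr x • x = 2
  have h3 : x.trace • x = (2 : F) • (1 : Matrix (Fin 2) (Fin 2) F) := by
    have : x.trace • x = (x.trace • x - 1) + 1 := by abel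
    rw [this, ← h1, two_smul]
  have h4 := congrArg Matrix.trace h3
  rw [Matrix.trace_smul, Matrix.trace_smul, Matrix.trace_one] at h4
  simp only [smul_eq_mul, Fintype.card_fin] at h4
  have h5 : x.trace * x.trace = 2 * 2 := by exact_mod_cast h4
  have h6 : x.trace = 2 ∨ x.trace = -2 := by
    have : x.trace ^ 2 = 2 ^ 2 := by rw [pow_two, pow_two]; exact h5
    exact sq_eq_sq_iff_eq_or_eq_neg.mp this
  rcases h6 with h | h
  · left
    rw [h] at h3
    have h7 := congrArg (fun N => (2 : F)⁻¹ • N) h3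
    simpa [smul_smul, inv_mul_cancel₀ h2] using h7
  · right
    rw [h] at h3
    have h7 := congrArg (fun N => (2 : F)⁻¹ • N) h3
    have h8 : (2 : F)⁻¹ * -2 = -1 := by field_simp
    simp only [smul_smul, h8, inv_mul_cancel₀ h2, one_smul] at h7
    have h9 : x = -((-1 : F) • x) := by simp
    rw [h9, h7]

end Cfsg.Agent.Lib.Helper23.FW
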