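import Mathlib
import Cfsg.Agent.Lib.Helper44.FW.Defs
import Cfsg.Agent.Lib.Helper23.FW.Sqrt

/-!
# Packages [SL2U] and [SL2SQ] of the team project FW (S3211)
-/

set_option autoImplicit false

namespace Cfsg.Agent.Lib.Helper23.FW

open Cfsg.Agent.Lib.Helper44.FW

universe u

theorem fw_negOne_coe (F : Type u) [Field F] :
    ((negOne F : Matrix.SpecialLinearGroup (Fin 2) F) : Matrix (Fin 2) (Fin 2) F) = -1 := by
  ext i j
  fin_cases i <;> fin_cases j <;> simp [negOne]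

theorem fw_sq_coe {F : Type u} [Field F] (x : Matrix.SpecialLinearGroup (Fin 2) F) :
    ((x ^ 2 : Matrix.SpecialLinearGroup (Fin 2) F) : Matrix (Fin 2) (Fin 2) F) =
      (x : Matrix (Fin 2) (Fin 2) F) * (x : Matrix (Fin 2) (Fin 2) F) := by
  rw [pow_two]
  rfl

/-- [SL2U] -/
theorem pkgSL2U : PkgSL2U.{u} := by
  intro F _ h2 x hx
  have h1 : (x : Matrix (Fin 2) (Fin 2) F) * (x : Matrix (Fin 2) (Fin 2) F) = 1 := by
    rw [← fw_sq_coe, hx]; rfl
  rcases fw_involution h2 (x : Matrix (Fin 2) (Fin 2) F) x.2 h1 with h | h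
  · left
    exact Subtype.ext h
  · right
    apply Subtype.ext
    rw [h]
    exact (fw_negOne_coe F).symm

/-- [SL2SQ] -/
theorem pkgSL2SQ : PkgSL2SQ.{u} := by
  intro F _ h2 x u u' hx hu hu'
  have hx2 : (x : Matrix (Fin 2) (Fin 2) F) * (x : Matrix (Fin 2) (Fin 2) F) = -1 := by
    rw [← fw_sq_coe, hx]; exact fw_negOne_coe F
  have hu2 : (u : Matrix (Fin 2) (Fin 2) F) * (u : Matrix (Fin 2) (Fin 2) F) =
      (x : Matrix (Fin 2) (Fin 2) F) := by
    rw [← fw_sq_coe, hu]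
  have hu2' : (u' : Matrix (Fin 2) (Fin 2) F) * (u' : Matrix (Fin 2) (Fin 2) F) =
      (x : Matrix (Fin 2) (Fin 2) F) := by
    rw [← fw_sq_coe, hu']
  obtain ⟨a1, a2⟩ := fw_sqrt_shape (x : Matrix (Fin 2) (Fin 2) F)
    (u : Matrix (Fin 2) (Fin 2) F) x.2 hx2 u.2 hu2
  obtain ⟨b1, b2⟩ := fw_sqrt_shape (x : Matrix (Fin 2) (Fin 2) F)
    (u' : Matrix (Fin 2) (Fin 2) F) x.2 hx2 u'.2 hu2'
  have hne : (u : Matrix (Fin 2) (Fin 2) F).trace ≠ 0 := by
    intro h0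
    rw [h0] at a2
    apply h2
    rw [← a2]; simp
  have htr : (u' : Matrix (Fin 2) (Fin 2) F).trace = (u : Matrix (Fin 2) (Fin 2) F).trace ∨
      (u' : Matrix (Fin 2) (Fin 2) F).trace = -(u : Matrix (Fin 2) (Fin 2) F).trace := by
    have h : (u' : Matrix (Fin 2) (Fin 2) F).trace ^ 2 =
        (u : Matrix (Fin 2) (Fin 2) F).trace ^ 2 := by rw [a2, b2]
    exact sq_eq_sq_iff_eq_or_eq_neg.mp h
  rcases htr with h | h
  · left
    exact Subtype.ext (fw_sqrt_eq_of_trace h2 (x : Matrix (Fin 2) (Fin 2) F) _ _ x.2 hx2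
      u'.2 hu2' u.2 hu2 h)
  · right
    apply Subtype.ext
    have h3 : (u : Matrix (Fin 2) (Fin 2) F).trace • (u' : Matrix (Fin 2) (Fin 2) F) =
        (u : Matrix (Fin 2) (Fin 2) F).trace • (-(u : Matrix (Fin 2) (Fin 2) F)) := by
      rw [smul_neg, a1, ← b1, h, neg_smul, neg_neg]
    have h4 := congrArg (fun N => ((u : Matrix (Fin 2) (Fin 2) F).trace)⁻¹ • N) h3
    have h5 : (u' : Matrix (Fin 2) (Fin 2) F) = -(u : Matrix (Fin 2) (Fin 2) F) := by
      simpa [smul_smul, inv_mul_cancel₀ hne] using h4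
    rw [h5]
    show -(u : Matrix (Fin 2) (Fin 2) F) =
      (u : Matrix (Fin 2) (Fin 2) F) * ((negOne F : Matrix.SpecialLinearGroup (Fin 2) F) :
        Matrix (Fin 2) (Fin 2) F)
    rw [fw_negOne_coe]; simp

end Cfsg.Agent.Lib.Helper23.FW
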